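import Cfsg.Agent.ThreePrime.SzRel
import Cfsg.Agent.LieExceptional.CyclicSylow
import Cfsg.Agent.S1163

/-!
# Central extensions of `Sz(q)`: tools for `Z(L) = 1`

* `comm_of_scale` : a family `ℓ : F → E`, additive modulo the centre and scaled by elements of `E`, commutes;
* `pow_index_of_perfect`, `not_dvd_of_cyclic` : transfer;
* `isCyclic_of_isPGroup` : for `p` odd, `p`-subgroups of `Sz(q)` are cyclic.
-/

set_option autoImplicit false

namespace Cfsg.Agent.Omega.NO1.SE.Centre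

open Subgroup Cfsg

/-! ### bilinear maps -/

section scale

variable {E F : Type*} [Group E] [Field F]

theorem comm_of_scale (htwo : (2 : F) = 0) (hex : ∃ t : F, t ≠ 0 ∧ t + 1 ≠ 0 ∧ t ^ 2 + t + 1 ≠ 0) (ℓ : F → E)
    (hadd : ∀ x y, ∃ z ∈ center E, ℓ x * ℓ y = ℓ (x + y) * z)
    (hs : ∀ k : F, k ≠ 0 → ∃ δ : E, ∀ x, ∃ z ∈ center E, δ * ℓ x * δ⁻¹ = ℓ (k * x) * z) (x y : F) :
    ℓ x * ℓ y = ℓ y * ℓ x := by
  have hself : ∀ a : F, a + a = 0 := fun a => by linear_combination a * htwo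
  -- the commutator map
  let b : F → F → E := fun x y => ℓ x * ℓ y * (ℓ x)⁻¹ * (ℓ y)⁻¹
  have hb : ∀ x y, b x y = ℓ x * ℓ y * (ℓ x)⁻¹ * (ℓ y)⁻¹ := fun _ _ => rfl
  have hcen : ∀ x y, b x y ∈ center E := by
    intro x y
    obtain ⟨z, hz, e⟩ := hadd x y
    obtain ⟨z', hz', e'⟩ := hadd y x
    have h1 : b x y = ℓ (x + y) * (z * z'⁻¹) * (ℓ (x + y))⁻¹ := by
      have h2 : b x y = (ℓ x * ℓ y) * (ℓ y * ℓ x)⁻¹ := by rw [hb]; group
      rw [h2, e, e', add_comm y x]; group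
    have h3 : z * z'⁻¹ ∈ center E := mul_mem hz (inv_mem hz')
    rw [h1, mem_center_iff.1 h3, mul_inv_cancel_right]
    exact h3
  have hc : ∀ x y (g : E), b x y * g = g * b x y := fun x y g => (mem_center_iff.1 (hcen x y) g).symm
  -- multiplicativity
  have hl : ∀ x x' y, b (x + x') y = b x y * b x' y := by
    intro x x' y
    obtain ⟨z, hz, e⟩ := hadd x x'
    have hz' : ∀ g : E, z * g = g * z := fun g => (mem_center_iff.1 hz g).symm
    have h1 : ℓ (x + x') = ℓ x * ℓ x' * z⁻¹ := by rw [e, mul_inv_cancel_right]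
    have hz'' : ∀ g : E, z⁻¹ * g = g * z⁻¹ := fun g => by
      rw [inv_mul_eq_iff_eq_mul, ← mul_assoc, hz', mul_inv_cancel_right]
    have h2 : b (x + x') y = ℓ x * b x' y * ℓ y * (ℓ x)⁻¹ * (ℓ y)⁻¹ := by
      rw [hb, hb, h1]
      calc ℓ x * ℓ x' * z⁻¹ * ℓ y * (ℓ x * ℓ x' * z⁻¹)⁻¹ * (ℓ y)⁻¹
          = ℓ x * ℓ x' * (z⁻¹ * ℓ y) * z * (ℓ x')⁻¹ * (ℓ x)⁻¹ * (ℓ y)⁻¹ := by group
        _ = ℓ x * ℓ x' * (ℓ y * z⁻¹) * z * (ℓ x')⁻¹ * (ℓ x)⁻¹ * (ℓ y)⁻¹ := by rw [hz'']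
        _ = ℓ x * (ℓ x' * ℓ y * (ℓ x')⁻¹ * (ℓ y)⁻¹) * ℓ y * (ℓ x)⁻¹ * (ℓ y)⁻¹ := by group
    rw [h2]
    calc ℓ x * b x' y * ℓ y * (ℓ x)⁻¹ * (ℓ y)⁻¹ = (b x' y * ℓ x) * ℓ y * (ℓ x)⁻¹ * (ℓ y)⁻¹ := by rw [hc]
      _ = b x' y * b x y := by rw [hb x y]; group
      _ = b x y * b x' y := hc _ _ _
  have hr : ∀ x y y', b x (y + y') = b x y * b x y' := by
    intro x y y'
    have hinv : ∀ u v, b u v = (b v u)⁻¹ := fun u v => by rw [hb, hb]; group
    rw [hinv, hl, _root_.mul_inv_rev, ← hinv, ← hinv]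
    exact hc _ _ _
  -- scaling
  have hsc : ∀ k, k ≠ 0 → ∀ x y, b (k * x) (k * y) = b x y := by
    intro k hk x y
    obtain ⟨δ, hδ⟩ := hs k hk
    obtain ⟨z, hz, e⟩ := hδ x
    obtain ⟨z', hz', e'⟩ := hδ y
    have h1 : ℓ (k * x) = δ * ℓ x * δ⁻¹ * z⁻¹ := by rw [e, mul_inv_cancel_right]
    have h2 : ℓ (k * y) = δ * ℓ y * δ⁻¹ * z'⁻¹ := by rw [e', mul_inv_cancel_right]
    have hz2 : ∀ g : E, z⁻¹ * g = g * z⁻¹ := fun g => (mem_center_iff.1 (inv_mem hz) g).symm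
    have hz3 : ∀ g : E, z'⁻¹ * g = g * z'⁻¹ := fun g => (mem_center_iff.1 (inv_mem hz') g).symm
    have h3 : b (k * x) (k * y) = δ * b x y * δ⁻¹ := by
      rw [hb (k * x), h1, h2]
      calc δ * ℓ x * δ⁻¹ * z⁻¹ * (δ * ℓ y * δ⁻¹ * z'⁻¹) * (δ * ℓ x * δ⁻¹ * z⁻¹)⁻¹ * (δ * ℓ y * δ⁻¹ * z'⁻¹)⁻¹
          = δ * ℓ x * δ⁻¹ * (z⁻¹ * (δ * ℓ y * δ⁻¹)) * (z'⁻¹ * z) * (δ * (ℓ x)⁻¹ * δ⁻¹) * z' * (δ * (ℓ y)⁻¹ * δ⁻¹) := by group
        _ = δ * ℓ x * δ⁻¹ * ((δ * ℓ y * δ⁻¹) * z⁻¹) * (z'⁻¹ * z) * (δ * (ℓ x)⁻¹ * δ⁻¹) * z' * (δ * (ℓ y)⁻¹ * δ⁻¹) := by rw [hz2]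
        _ = δ * ℓ x * ℓ y * δ⁻¹ * (z⁻¹ * (z'⁻¹ * z)) * (δ * (ℓ x)⁻¹ * δ⁻¹) * z' * (δ * (ℓ y)⁻¹ * δ⁻¹) := by group
        _ = δ * ℓ x * ℓ y * δ⁻¹ * (z'⁻¹ * (δ * (ℓ x)⁻¹ * δ⁻¹)) * z' * (δ * (ℓ y)⁻¹ * δ⁻¹) := by
            rw [hz2]; group
        _ = δ * ℓ x * ℓ y * δ⁻¹ * ((δ * (ℓ x)⁻¹ * δ⁻¹) * z'⁻¹) * z' * (δ * (ℓ y)⁻¹ * δ⁻¹) := by rw [hz3]
        _ = δ * (ℓ x * ℓ y * (ℓ x)⁻¹ * (ℓ y)⁻¹) * δ⁻¹ := by group
    rw [h3, ← hc, mul_inv_cancel_right]
  -- `b 1 = 1`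
  have h0 : ∀ y, b 0 y = 1 := by
    intro y
    have h1 := hl 0 0 y
    rw [add_zero] at h1
    exact (mul_eq_left.1 h1.symm)
  have hr0 : ∀ x, b x 0 = 1 := by
    intro x
    have h1 := hr x 0 0
    rw [add_zero] at h1
    exact (mul_eq_left.1 h1.symm)
  obtain ⟨t, ht0, ht1, ht⟩ := hex
  have hscale : ∀ x, x ≠ 0 → ∀ y, b x y = b 1 (x⁻¹ * y) := by
    intro x hx y
    have h1 := hsc x hx 1 (x⁻¹ * y)
    rw [mul_one, mul_inv_cancel_left₀ hx] at h1
    exact h1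
  have hsq : ∀ x y, b x y * b x y = 1 := by
    intro x y
    rw [← hr, hself, hr0]
  have h1 : ∀ y, b 1 y = 1 := by
    intro y
    set s : F := (t + 1)⁻¹ + t⁻¹ + 1 with hsdef
    have hs0 : s ≠ 0 := by
      have h2 : s = (t ^ 2 + t + 1) / (t * (t + 1)) := by
        rw [hsdef]
        field_simp
        linear_combination t * htwo
      rw [h2]
      exact div_ne_zero ht (mul_ne_zero ht0 ht1)
    have key : ∀ v, b 1 (s * v) = 1 := by
      intro v
      have h2 : s * v = (t + 1)⁻¹ * v + t⁻¹ * v + v := by rw [hsdef]; ring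
      have e1 : b t v * b 1 v * b t v = b 1 v := by rw [hc t v (b 1 v), mul_assoc, hsq, mul_one]
      rw [h2, hr, hr, ← hscale _ ht1, ← hscale _ ht0, hl, e1, hsq]
    have h3 := key (s⁻¹ * y)
    rwa [mul_inv_cancel_left₀ hs0] at h3
  have hall : b x y = 1 := by
    by_cases hx : x = 0
    · rw [hx, h0]
    · rw [hscale x hx, h1]
  have h2 : ℓ x * ℓ y * (ℓ x)⁻¹ * (ℓ y)⁻¹ = 1 := hall
  rw [mul_inv_eq_one, mul_inv_eq_iff_eq_mul] at h2
  exact h2

end scale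

/-! ### transfer -/

section transfer

variable {L : Type*} [Group L] [Finite L]

omit [Finite L] in
theorem hom_eq_one (hL : commutator L = ⊤) {E : Type*} [CommGroup E] (f : L →* E) (x : L) : f x = 1 := by
  have h1 : commutator L ≤ f.ker := Abelianization.commutator_subset_ker f
  exact h1 (by rw [hL]; exact mem_top x)

theorem pow_index_of_perfect (hL : commutator L = ⊤) {E : Type*} [CommGroup E] (H : Subgroup L) (ϕ : H →* E)
    {z : L} (hz : z ∈ center L) : ∃ h : z ^ H.index ∈ H, ϕ ⟨z ^ H.index, h⟩ = 1 := by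
  have key : ∀ (k : ℕ) (g₀ : L), g₀⁻¹ * z ^ k * g₀ ∈ H → g₀⁻¹ * z ^ k * g₀ = z ^ k := by
    intro k g₀ _
    have h1 : z ^ k ∈ center L := pow_mem hz k
    rw [mul_assoc, ← mem_center_iff.1 h1 g₀, inv_mul_cancel_left]
  refine ⟨MonoidHom.transfer_eq_pow_aux z key, ?_⟩
  rw [← MonoidHom.transfer_eq_pow ϕ z key]
  exact hom_eq_one hL _ z

/-- a finite perfect group whose central quotient has cyclic Sylow `p`-subgroups has `p'`-centre -/
theorem not_dvd_of_cyclic (hL : commutator L = ⊤) {p : ℕ} [hp : Fact p.Prime]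
    (hc : ∀ P : Subgroup (L ⧸ center L), IsPGroup p P → IsCyclic P) : ¬ p ∣ Nat.card (center L) := by
  intro hdvd
  obtain ⟨z₀, hz₀⟩ := exists_prime_orderOf_dvd_card' p hdvd
  obtain ⟨z, hz⟩ := z₀
  have hzo : orderOf z = p := by rw [← hz₀, Subgroup.orderOf_mk]
  have hzp : IsPGroup p (zpowers z) := by
    rw [IsPGroup.iff_card]
    exact ⟨1, by rw [Nat.card_zpowers, hzo, pow_one]⟩
  obtain ⟨P, hP⟩ := hzp.exists_le_sylow
  -- `P` is abelian
  let f : (P : Subgroup L) →* (P : Subgroup L).map (QuotientGroup.mk' (center L)) :=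
    (QuotientGroup.mk' (center L)).subgroupMap (P : Subgroup L)
  have hcyc : IsCyclic ((P : Subgroup L).map (QuotientGroup.mk' (center L))) := by
    apply hc
    exact P.isPGroup'.map _
  have hcomm : ∀ x y : (P : Subgroup L), x * y = y * x := by
    refine commutative_of_cyclic_center_quotient f ?_
    intro x hx
    have h1 : (QuotientGroup.mk' (center L)) (x : L) = 1 := congrArg Subtype.val hx
    have h2 : (x : L) ∈ center L := (QuotientGroup.eq_one_iff (x : L)).1 h1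
    rw [mem_center_iff]
    intro y
    exact Subtype.ext (mem_center_iff.1 h2 y)
  let _ : CommGroup (P : Subgroup L) := { (inferInstance : Group (P : Subgroup L)) with mul_comm := hcomm }
  obtain ⟨h1, h2⟩ := pow_index_of_perfect hL (P : Subgroup L) (MonoidHom.id (P : Subgroup L)) hz
  have h3 : z ^ (P : Subgroup L).index = 1 := congrArg Subtype.val h2
  have h4 : p ∣ (P : Subgroup L).index := by
    have h5 := orderOf_dvd_of_pow_eq_one h3
    rwa [hzo] at h5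
  exact P.not_dvd_index h4

end transfer

/-! ### odd Sylow subgroups of `Sz(q)` -/

section cyclic

open Cfsg.Agent.LieExceptional.CyclicSylow Cfsg.Agent.ThreePrime.SzRel

/-- If `p` is odd, the `p`-part of `q² (q - 1) (q² + 1)` is that of `q - 1` when `p ∣ q - 1`. -/
theorem fact_aux {p q : ℕ} [Fact p.Prime] (hp : p ≠ 2) (hq : 2 ≤ q) (hpq : p ∣ q - 1) :
    (q ^ 2 * (q - 1) * (q ^ 2 + 1)).factorization p = (q - 1).factorization p := by
  have hpp : p.Prime := Fact.out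
  have h1 : ¬ p ∣ q := by
    intro h
    have h2 : p ∣ q - (q - 1) := Nat.dvd_sub h hpq
    rw [show q - (q - 1) = 1 by omega] at h2
    exact hpp.one_lt.ne' (Nat.dvd_one.1 h2)
  have h2 : ¬ p ∣ q ^ 2 + 1 := by
    intro h
    obtain ⟨k, hk⟩ := hpq
    have h3 : q = p * k + 1 := by omega
    rw [h3] at h
    have h4 : (p * k + 1) ^ 2 + 1 = p * (p * k * k + 2 * k) + 2 := by ring
    rw [h4] at h
    have h5 : p ∣ 2 := (Nat.dvd_add_right (dvd_mul_right _ _)).1 h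
    exact hp ((Nat.prime_dvd_prime_iff_eq hpp Nat.prime_two).1 h5)
  have h3 : q - 1 ≠ 0 := by omega
  have h4 : q ^ 2 * (q ^ 2 + 1) ≠ 0 := by positivity
  rw [show q ^ 2 * (q - 1) * (q ^ 2 + 1) = q ^ 2 * (q ^ 2 + 1) * (q - 1) by ring,
    Nat.factorization_mul h4 h3, Finsupp.add_apply, Nat.factorization_eq_zero_of_not_dvd, zero_add]
  intro h
  rcases hpp.dvd_mul.1 h with h | h
  · exact h1 (hpp.dvd_of_dvd_pow h)
  · exact h2 h

/-- If the odd prime `p` divides `q² + 1` with `q` even, then it does not divide `q ^ i - 1` for `0 < i < 4`. -/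
theorem order_aux {p q : ℕ} [Fact p.Prime] (hp : p ≠ 2) (hq : 2 ≤ q) (hpq : p ∣ q ^ 2 + 1) :
    ∀ i, 0 < i → i < 4 → ¬ p ∣ q ^ i - 1 := by
  have hpp : p.Prime := Fact.out
  have hp2 : ¬ p ∣ 2 := fun h => hp ((Nat.prime_dvd_prime_iff_eq hpp Nat.prime_two).1 h)
  have key2 : ¬ p ∣ q ^ 2 - 1 := by
    intro h
    have h1 : p ∣ (q ^ 2 + 1) - (q ^ 2 - 1) := Nat.dvd_sub hpq h
    have h2 : 1 ≤ q ^ 2 := Nat.one_le_pow _ _ (by omega)
    rw [show (q ^ 2 + 1) - (q ^ 2 - 1) = 2 by omega] at h1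
    exact hp2 h1
  have key1 : ¬ p ∣ q - 1 := by
    intro h
    apply key2
    have : q - 1 ∣ q ^ 2 - 1 := by
      simpa using Nat.sub_dvd_pow_sub_pow q 1 2
    exact h.trans this
  intro i hi hi4
  interval_cases i
  · simpa using key1
  · exact key2
  · intro h
    have h1 : (q ^ 3 : ZMod p) = 1 := by
      have h2 : ((q ^ 3 - 1 : ℕ) : ZMod p) = 0 := (ZMod.natCast_eq_zero_iff _ _).2 h
      rw [Nat.cast_sub (Nat.one_le_pow _ _ (by omega))] at h2
      push_cast at h2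
      exact sub_eq_zero.1 h2
    have h2 : (q ^ 2 + 1 : ZMod p) = 0 := by
      have := (ZMod.natCast_eq_zero_iff (q ^ 2 + 1) p).2 hpq
      push_cast at this
      exact this
    have h3 : (q : ZMod p) = -1 := by
      linear_combination (q : ZMod p) * h2 - h1
    rw [h3] at h2
    have h4 : ((2 : ℕ) : ZMod p) = 0 := by
      push_cast
      linear_combination h2
    exact hp2 ((ZMod.natCast_eq_zero_iff _ _).1 h4)

/-- **`p`-subgroups of `Sz(q)`, `p` odd, are cyclic.** -/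
theorem isCyclic_of_isPGroup {X : Type*} [Group X] [Finite X] (hX : Lie.IsoSuzuki X) {p : ℕ} [Fact p.Prime]
    (hp : p ≠ 2) (P : Subgroup X) (hP : IsPGroup p P) : IsCyclic P := by
  have hpp : p.Prime := Fact.out
  obtain ⟨F, iF, iF', m, hm, hF, ⟨f⟩⟩ := hX
  have hcard : Nat.card X = (2 ^ (2 * m + 1)) ^ 2 * (2 ^ (2 * m + 1) - 1) * ((2 ^ (2 * m + 1)) ^ 2 + 1) := by
    rw [Nat.card_congr f.toEquiv]
    exact (Cfsg.Agent.S1163.result hm hF).1
  rw [← hF] at hcard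
  let R : Cfsg.Agent.ThreePrime.SzRel.Rel X F := (ofGood (Cfsg.Agent.LieRecognition.SzMatrix.good hF)).map f.symm
  have hq : Nat.card F = Fintype.card F := Nat.card_eq_fintype_card
  set q := Fintype.card F with hqdef
  have hq2 : 2 ≤ q := by
    rw [hF]
    calc 2 = 2 ^ 1 := rfl
      _ ≤ 2 ^ (2 * m + 1) := Nat.pow_le_pow_right (by norm_num) (by omega)
  have hpq : ¬ p ∣ q := by
    intro h
    rw [hF] at h
    exact hp ((Nat.prime_dvd_prime_iff_eq hpp Nat.prime_two).1 (hpp.dvd_of_dvd_pow h))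
  by_cases h1 : p ∣ q - 1
  · let d : Fˣ →* X :=
      { toFun := R.d
        map_one' := R.d_one
        map_mul' := fun k l => (R.d_mul k l).symm }
    have hd : Function.Injective d := fun k l h => R.d_inj h
    refine isCyclic_of_isPGroup_of_hom d hd ?_ hP
    rw [hcard, Nat.card_units, hq]
    exact fact_aux hp hq2 h1
  · by_cases h2 : p ∣ q ^ 2 + 1
    · refine isCyclic_of_isPGroup_of_hom_GL (F := F) (n := 4) (p := p) ?_ ?_ hP
        (((Cfsg.Lie.Sz F (2 ^ (m + 1))).subtype.comp f.toMonoidHom).comp (Subgroup.subtype _)) ?_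
      · rw [hq]; exact hpq
      · rw [hq]; exact order_aux hp hq2 h2
      · rw [MonoidHom.coe_comp, MonoidHom.coe_comp]
        exact ((Subgroup.subtype_injective _).comp f.injective).comp (Subgroup.subtype_injective _)
    · have h3 : ¬ p ∣ Nat.card X := by
        rw [hcard]
        intro h
        rcases hpp.dvd_mul.1 h with h | h
        · rcases hpp.dvd_mul.1 h with h | h
          · exact hpq (hpp.dvd_of_dvd_pow h)
          · exact h1 h
        · exact h2 h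
      have h4 : Nat.card P = 1 := by
        obtain ⟨n, hn⟩ := IsPGroup.iff_card.1 hP
        rcases Nat.eq_zero_or_pos n with h0 | h0
        · rw [hn, h0, pow_zero]
        · exfalso
          apply h3
          refine (dvd_pow_self p h0.ne').trans ?_
          rw [← hn]
          exact card_subgroup_dvd_card P
      have := (Nat.card_eq_one_iff_unique.1 h4).1
      infer_instance

end cyclic

end Cfsg.Agent.Omega.NO1.SE.Centre
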