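import Cfsg.Agent.SuzukiRankOne.Assembly

/-!
# LEMMA SE (#16297), part two: the dichotomy of the structure equation `t s t = r⁻¹ t r`

In a simple rank-one set-up of `2`-rank at least two either `r = s`, hence `(t s)³ = 1`, or the group is a Suzuki group.
-/

set_option autoImplicit false

namespace Cfsg.Agent.Omega.NO1.SE.Core

open MulAction Subgroup Cfsg Cfsg.Agent Cfsg.Agent.SuzukiRankOne
  Cfsg.Agent.SuzukiRankOne.Assembly

variable {G Ω : Type*} [Group G] [Finite G] [MulAction G Ω] {a : Ω} {t : G} {Q : Subgroup G}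

theorem core [FaithfulSMul G Ω] [IsSimpleGroup G] (hS : IsRankOneSetup G Ω a t Q)
    (h2 : ∃ x y : G, x ≠ 1 ∧ y ≠ 1 ∧ x ≠ y ∧ x * x = 1 ∧ y * y = 1 ∧ x * y = y * x) :
    (∃ s ∈ Q, s ≠ 1 ∧ s * s = 1 ∧ (t * s) ^ 3 = 1) ∨
    (Nat.card Q = (Nat.card (involutionsIn (stabilizer G a : Set G)) + 1) ^ 2 ∧ Lie.IsoSuzuki G) := by
  obtain ⟨hcen, hclosed⟩ := S1130.result hS h2
  have hK := S1131.result hS h2
  obtain ⟨C, hC, hCc, -⟩ := id hK
  obtain ⟨⟨s, r⟩, ⟨hs, hr, hsr⟩, -⟩ := S1123.result hS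
  simp only at hs hr hsr
  have hQ2 := M1.isPGroup_Q hS h2
  by_cases hrs : r = s
  · left
    subst hrs
    refine ⟨r, hr, hs.2.1, hs.2.2, ?_⟩
    have hinv : r⁻¹ = r := inv_eq_of_mul_eq_one_left hs.2.2
    rw [hinv] at hsr
    have ht := hS.mul_self
    calc (t * r) ^ 3 = (t * r * t) * r * (t * r) := by simp only [pow_succ, pow_zero, one_mul, mul_assoc]
      _ = (r * t * r) * r * (t * r) := by rw [hsr]
      _ = r * t * (r * r) * t * r := by simp only [mul_assoc]
      _ = r * (t * t) * r := by rw [hs.2.2]; simp only [mul_one, mul_assoc]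
      _ = 1 := by rw [ht, mul_one, hs.2.2]
  · right
    have : Fact (Nat.Prime 2) := ⟨Nat.prime_two⟩
    have hnab : ¬ ∀ x ∈ Q, ∀ y ∈ Q, x * y = y * x := fun h =>
      hrs (AbelianCase.r_eq_s hS h2 C hC hQ2 h s r hs hr hsr)
    let S : Sylow 2 Q := default
    have hST : (S : Subgroup Q) = ⊤ :=
      (S.is_maximal' (hQ2.of_equiv Subgroup.topEquiv.symm) le_top).symm
    have hSuz : IsSuzukiTwoGroup ↥(S : Subgroup Q) := by
      rcases S1132.result hS h2 S with h | h
      · exfalso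
        apply hnab
        intro x hx y hy
        have hmem : ∀ x : Q, x ∈ (S : Subgroup Q) := fun x => by
          rw [hST]
          exact Subgroup.mem_top x
        have h3 := h.is_comm.comm (⟨⟨x, hx⟩, hmem _⟩ : (S : Subgroup Q)) ⟨⟨y, hy⟩, hmem _⟩
        exact congrArg (fun z : (S : Subgroup Q) => ((z : Q) : G)) h3
      · exact h
    obtain ⟨h4, hcard, n, hn⟩ := of_suzuki hS hcen S hST hSuz
    have hr2 : r * r = s := OrderFive.sq_eq hS hcen hclosed hs hr hsr hrs (h4 r hr)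
    have hcard' : Nat.card Q = (Nat.card (involutionsIn (stabilizer G a : Set G)) + 1) ^ 2 := by
      refine hcard.resolve_right ?_
      rw [hn]
      exact OrderFive.card_ne_cube hS hcen hclosed hC hs hr hsr hrs (h4 r hr) hn
    exact ⟨hcard', SzCase.isoSuzuki hS h2 hK hs hr hsr hr2 hcard'⟩

end Cfsg.Agent.Omega.NO1.SE.Core
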