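import Cfsg.Agent.AschCrit.NonIso

/-!
# LEMMA SE (#16297): the data (helper753)

`K` a finite group generated by two elementary abelian 2-groups `A false ≠ A true`, such that an
element `≠ 1` of `A i` normalises no conjugate of `A j` but `A i` (if it is one).

* `Dat A`, `Pt A` : the conjugates of `A false`, with the conjugation action
-/

set_option autoImplicit false

universe u

namespace Cfsg.Agent.Omega.NO1.SE

open Subgroup

/-- the conjugate `X ^ g = g X g⁻¹` -/
def cj {K : Type*} [Group K] (g : K) (X : Subgroup K) : Subgroup K := X.map (MulAut.conj g).toMonoidHom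

section cj

variable {K : Type*} [Group K]

theorem mem_cj {g x : K} {X : Subgroup K} : x ∈ cj g X ↔ g⁻¹ * x * g ∈ X := by
  constructor
  · rintro ⟨y, hy, rfl⟩
    have e : g⁻¹ * ((MulAut.conj g).toMonoidHom y) * g = y := by
      rw [MulEquiv.coe_toMonoidHom, MulAut.conj_apply]; group
    rwa [e]
  · intro h
    refine ⟨_, h, ?_⟩
    rw [MulEquiv.coe_toMonoidHom, MulAut.conj_apply]; group

theorem conj_mem_cj {g x : K} {X : Subgroup K} (h : x ∈ X) : g * x * g⁻¹ ∈ cj g X := by
  rw [mem_cj]
  have e : g⁻¹ * (g * x * g⁻¹) * g = x := by group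
  rwa [e]

theorem cj_one (X : Subgroup K) : cj 1 X = X := by
  ext x; rw [mem_cj]; simp

theorem cj_mul (g k : K) (X : Subgroup K) : cj (g * k) X = cj g (cj k X) := by
  ext x
  rw [mem_cj, mem_cj, mem_cj]
  have e : (g * k)⁻¹ * x * (g * k) = k⁻¹ * (g⁻¹ * x * g) * k := by group
  rw [e]

theorem cj_inv_cj (g : K) (X : Subgroup K) : cj g⁻¹ (cj g X) = X := by
  rw [← cj_mul, inv_mul_cancel, cj_one]

theorem cj_cj_inv (g : K) (X : Subgroup K) : cj g (cj g⁻¹ X) = X := by
  rw [← cj_mul, mul_inv_cancel, cj_one]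

theorem cj_self {g : K} {X : Subgroup K} (h : g ∈ X) : cj g X = X := by
  ext x
  rw [mem_cj]
  constructor
  · intro hx
    have := X.mul_mem (X.mul_mem h hx) (X.inv_mem h)
    have e : g * (g⁻¹ * x * g) * g⁻¹ = x := by group
    rwa [e] at this
  · intro hx
    exact X.mul_mem (X.mul_mem (X.inv_mem h) hx) h

theorem card_cj (g : K) (X : Subgroup K) : Nat.card (cj g X) = Nat.card X := by
  refine (Nat.card_congr ?_).symm
  exact (X.equivMapOfInjective (MulAut.conj g).toMonoidHom (MulAut.conj g).injective).toEquiv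

theorem cj_injective (g : K) : Function.Injective (cj g) := by
  intro X Y h
  rw [← cj_inv_cj g X, h, cj_inv_cj]

end cj

/-- **The data of LEMMA SE.** -/
structure Dat {K : Type*} [Group K] (A : Bool → Subgroup K) : Prop where
  comm : ∀ i, ∀ a ∈ A i, ∀ b ∈ A i, a * b = b * a
  sq : ∀ i, ∀ a ∈ A i, a * a = 1
  gen : A false ⊔ A true = ⊤
  ne : A false ≠ A true
  ntr : A true ≠ ⊥
  four : 4 ≤ Nat.card (A false)
  fix : ∀ i j (g : K), ∀ a ∈ A i, a ≠ 1 → cj a (cj g (A j)) = cj g (A j) → cj g (A j) = A i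

/-- the points: the conjugates of `A false` -/
def Pt {K : Type*} [Group K] (A : Bool → Subgroup K) : Type _ :=
  {X : Subgroup K // ∃ g : K, X = cj g (A false)}

namespace Pt

variable {K : Type*} [Group K] {A : Bool → Subgroup K}

instance [Finite K] : Finite (Pt A) :=
  Finite.of_injective (fun X : Pt A => (X.1 : Set K)) fun _ _ h =>
    Subtype.ext (SetLike.coe_injective h)

instance : MulAction K (Pt A) where
  smul g X := ⟨cj g X.1, by
    obtain ⟨k, hk⟩ := X.2
    exact ⟨g * k, by rw [hk, cj_mul]⟩⟩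
  one_smul X := Subtype.ext (cj_one X.1)
  mul_smul g k X := Subtype.ext (cj_mul g k X.1)

theorem smul_val (g : K) (X : Pt A) : (g • X).1 = cj g X.1 := rfl

/-- the point `A false` -/
def o (A : Bool → Subgroup K) : Pt A := ⟨A false, 1, (cj_one _).symm⟩

theorem exists_smul (X : Pt A) : ∃ g : K, g • o A = X := by
  obtain ⟨g, hg⟩ := X.2
  exact ⟨g, Subtype.ext hg.symm⟩

end Pt

end Cfsg.Agent.Omega.NO1.SE
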