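import Cfsg.Agent.Omega.NO1.SE.Centre
import Cfsg.Agent.ThreePrime.SzDataExists

/-!
# `L / Z(L) = Sz(q)` with a lift `A` of the centre of a Sylow 2-subgroup: `Z(L) = 1` (#16297 (f))

* `exists_rel_sylow` : coordinates adapted to a Sylow 2-subgroup;
* `Ext` : `A ∩ Z(L) = 1`, `A` maps onto `{u 0 b}`, an element normalising `A` modulo `Z(L)` normalises `A`;
* `Ext.le_commutator`, `Ext.not_two_dvd`, `Ext.center_eq_bot`.
-/

set_option autoImplicit false

namespace Cfsg.Agent.Omega.NO1.SE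

open Subgroup Cfsg Cfsg.Agent.Omega.NO1.SE.Centre
open Cfsg.Agent.ThreePrime

/-- coordinates adapted to a Sylow 2-subgroup -/
theorem exists_rel_sylow {X : Type*} [Group X] [Finite X] (h : Lie.IsoSuzuki X) (P : Sylow 2 X) :
    ∃ (F : Type) (_ : Field F) (_ : Fintype F) (m : ℕ), 1 ≤ m ∧ Fintype.card F = 2 ^ (2 * m + 1) ∧
      Nat.card X = Fintype.card F ^ 2 * (Fintype.card F ^ 2 + 1) * (Fintype.card F - 1) ∧
      ∃ R : SzRel.Rel X F, R.T = (P : Subgroup X) := by
  have : Fact (Nat.Prime 2) := ⟨Nat.prime_two⟩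
  obtain ⟨F, iF, iF', m, hm, hF, ⟨f⟩⟩ := h
  let R₀ : SzRel.Rel X F := (SzRel.ofGood (Cfsg.Agent.LieRecognition.SzMatrix.good hF)).map f.symm
  obtain ⟨P₀, hP₀⟩ := R₀.exists_sylow_eq hm hF
  obtain ⟨g, hg⟩ := MulAction.exists_smul_eq X P₀ P
  refine ⟨F, iF, iF', m, hm, hF, ?_, R₀.map (MulAut.conj g), ?_⟩
  · rw [Nat.card_congr f.toEquiv, (Cfsg.Agent.S1163.result hm hF).1, hF]
    ring
  rw [← hg, Sylow.coe_subgroup_smul, hP₀]
  ext x
  rw [Subgroup.mem_pointwise_smul_iff_inv_smul_mem]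
  constructor
  · rintro ⟨a, b, rfl⟩
    refine ⟨a, b, ?_⟩
    show (MulAut.conj g)⁻¹ (MulAut.conj g (R₀.u a b)) = _
    rw [MulAut.inv_apply_self]
  · rintro ⟨a, b, hab⟩
    refine ⟨a, b, ?_⟩
    show x = MulAut.conj g (R₀.u a b)
    rw [← hab]
    exact (MulAut.apply_inv_self X (MulAut.conj g) x).symm

/-- a lift of the centre of a Sylow 2-subgroup of `L / Z(L) = Sz(q)` -/
structure Ext {L F : Type*} [Group L] [Field F] (A : Subgroup L) (R : SzRel.Rel (L ⧸ center L) F) : Prop where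
  inf : ∀ a ∈ A, a ∈ center L → a = 1
  mem : ∀ x, x ∈ A.map (QuotientGroup.mk' (center L)) ↔ ∃ b, x = R.u 0 b
  norm : ∀ g : L, (∀ x ∈ A.map (QuotientGroup.mk' (center L)),
    QuotientGroup.mk' (center L) g * x * (QuotientGroup.mk' (center L) g)⁻¹ ∈ A.map (QuotientGroup.mk' (center L))) →
      g ∈ normalizer (A : Set L)

namespace Ext

variable {L F : Type*} [Group L] [Field F] {A : Subgroup L} {R : SzRel.Rel (L ⧸ center L) F}
  (h : Ext A R)
include h

local notation "π" => QuotientGroup.mk' (center L)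

theorem exists_mem (b : F) : ∃ a ∈ A, (QuotientGroup.mk' (center L)) a = R.u 0 b := by
  obtain ⟨a, ha, e⟩ := (h.mem (R.u 0 b)).2 ⟨b, rfl⟩
  exact ⟨a, ha, e⟩

omit h in
theorem center_of_eq {x y : L} (e : (QuotientGroup.mk' (center L)) x = (QuotientGroup.mk' (center L)) y) :
    x⁻¹ * y ∈ center L := QuotientGroup.eq.1 e

theorem eq_of_eq {a b : L} (ha : a ∈ A) (hb : b ∈ A)
    (e : (QuotientGroup.mk' (center L)) a = (QuotientGroup.mk' (center L)) b) : a = b := by
  have h1 := h.inf _ (mul_mem (inv_mem ha) hb) (center_of_eq e)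
  rwa [inv_mul_eq_one] at h1

theorem norm_d {g : L} {k : Fˣ} (hg : (QuotientGroup.mk' (center L)) g = R.d k) : g ∈ normalizer (A : Set L) := by
  apply h.norm
  intro x hx
  obtain ⟨b, rfl⟩ := (h.mem x).1 hx
  rw [hg, R.conj_d, zero_mul, zero_mul]
  exact (h.mem _).2 ⟨_, rfl⟩

theorem norm_u {g : L} {a b : F} (hg : (QuotientGroup.mk' (center L)) g = R.u a b) :
    g ∈ normalizer (A : Set L) := by
  apply h.norm
  intro x hx
  obtain ⟨c, rfl⟩ := (h.mem x).1 hx
  rw [hg, R.conj_u]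
  exact (h.mem _).2 ⟨_, rfl⟩

/-- `A = [A, H]` -/
theorem le_commutator (hne : ∃ j : Fˣ, j ≠ 1) : A ≤ commutator L := by
  intro a ha
  obtain ⟨b, hb⟩ := (h.mem _).1 ⟨a, ha, rfl⟩
  obtain ⟨j, hj⟩ := hne
  have hj1 : R.θ j + 1 ≠ 0 := by
    intro h0
    apply hj
    have h1 : R.θ j = 1 := by
      have h2 := R.add_self (1 : F)
      linear_combination h0 - h2
    have h2 : (j : F) = 1 := R.θ.injective (by rw [h1, map_one])
    exact Units.ext h2
  obtain ⟨c, hc⟩ : ∃ c : F, c * R.θ j + c = b := ⟨b / (R.θ j + 1), by field_simp⟩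
  obtain ⟨a', ha', e'⟩ := h.exists_mem c
  obtain ⟨g, hg⟩ := QuotientGroup.mk'_surjective (center L) (R.d j)
  have hgn := h.norm_d hg
  have h1 : g * a' * g⁻¹ * a'⁻¹ ∈ A := mul_mem ((mem_normalizer_iff.1 hgn a').1 ha') (inv_mem ha')
  have h2 : (QuotientGroup.mk' (center L)) (g * a' * g⁻¹ * a'⁻¹) = (QuotientGroup.mk' (center L)) a := by
    rw [map_mul, map_mul, map_mul, map_inv, map_inv, hg, e', R.conj_d, R.u_inv, R.u_mul]
    show _ = (QuotientGroup.mk' (center L)) a
    rw [hb]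
    simp only [zero_mul, add_zero]
    rw [hc]
  rw [← h.eq_of_eq h1 ha h2]
  exact commutator_mem_commutator (mem_top g) (mem_top a')

/-- `Z(L)` has odd order. -/
theorem not_two_dvd [Finite L] [Fintype F] {m : ℕ} (hm : 1 ≤ m) (hF : Fintype.card F = 2 ^ (2 * m + 1))
    (hL : commutator L = ⊤) : ¬ 2 ∣ Nat.card (center L) := by
  classical
  have : Fact (Nat.Prime 2) := ⟨Nat.prime_two⟩
  -- a scalar
  have hex : ∃ t : F, t ≠ 0 ∧ t + 1 ≠ 0 ∧ t ^ 2 + t + 1 ≠ 0 := by
    by_contra hcon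
    push_neg at hcon
    let p : Polynomial F := Polynomial.X * (Polynomial.X + 1) * (Polynomial.X ^ 2 + Polynomial.X + 1)
    have hp : p.Monic := by
      have h1 : (Polynomial.X + 1 : Polynomial F).Monic := by monicity!
      have h2 : (Polynomial.X ^ 2 + Polynomial.X + 1 : Polynomial F).Monic := by monicity!
      exact (Polynomial.monic_X.mul h1).mul h2
    have hd : p.natDegree ≤ 4 := by
      show (Polynomial.X * (Polynomial.X + 1) * (Polynomial.X ^ 2 + Polynomial.X + 1) : Polynomial F).natDegree ≤ 4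
      compute_degree
    have h0 : p = 0 := by
      refine Polynomial.eq_zero_of_natDegree_lt_card_of_eval_eq_zero p (f := id) Function.injective_id ?_ ?_
      · intro t
        show Polynomial.eval t (Polynomial.X * (Polynomial.X + 1) * (Polynomial.X ^ 2 + Polynomial.X + 1)) = 0
        simp only [Polynomial.eval_mul, Polynomial.eval_add, Polynomial.eval_pow, Polynomial.eval_X,
          Polynomial.eval_one]
        by_cases h1 : t = 0
        · rw [h1, zero_mul, zero_mul]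
        · by_cases h2 : t + 1 = 0
          · rw [h2, mul_zero, zero_mul]
          · rw [hcon t h1 h2, mul_zero]
      · rw [hF]
        refine lt_of_le_of_lt hd ?_
        calc 4 < 2 ^ 3 := by norm_num
          _ ≤ 2 ^ (2 * m + 1) := Nat.pow_le_pow_right (by norm_num) (by omega)
    exact hp.ne_zero h0
  -- `N(A) / A`
  set N := normalizer (A : Set L) with hN
  let A' : Subgroup N := A.subgroupOf N
  have hA'n : A'.Normal := inferInstance
  let q : N →* N ⧸ A' := QuotientGroup.mk' A'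
  have hqA : ∀ x : N, (x : L) ∈ A → q x = 1 := fun x hx => (QuotientGroup.eq_one_iff x).2 hx
  have hcN : ∀ z ∈ center L, z ∈ N := by
    intro z hz
    rw [hN, mem_normalizer_iff]
    intro x
    have e : z * x * z⁻¹ = x := by rw [← mem_center_iff.1 hz x]; group
    rw [e]
  have hqc : ∀ x : N, (x : L) ∈ center L → q x ∈ center (N ⧸ A') := by
    intro x hx
    rw [mem_center_iff]
    intro y
    obtain ⟨y, rfl⟩ := QuotientGroup.mk'_surjective A' y
    show q y * q x = q x * q y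
    rw [← map_mul, ← map_mul]
    congr 1
    exact Subtype.ext (mem_center_iff.1 hx y)
  have hlift : ∀ x : F, ∃ g : N, (QuotientGroup.mk' (center L)) (g : L) = R.u x 0 := by
    intro x
    obtain ⟨g, hg⟩ := QuotientGroup.mk'_surjective (center L) (R.u x 0)
    exact ⟨⟨g, h.norm_u hg⟩, hg⟩
  choose û hû using hlift
  let ℓ : F → N ⧸ A' := fun x => q (û x)
  -- an element of `N` over `u a b` is in `ℓ a * center`
  have key : ∀ (g : N) (a b : F), (QuotientGroup.mk' (center L)) (g : L) = R.u a b →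
      ∃ z ∈ center (N ⧸ A'), q g = ℓ a * z := by
    intro g a b hg
    obtain ⟨c, hc, ec⟩ := h.exists_mem b
    have hcN' : c ∈ N := le_normalizer hc
    have h1 : (QuotientGroup.mk' (center L)) ((û a : L) * c) = (QuotientGroup.mk' (center L)) (g : L) := by
      rw [map_mul, hû, ec, hg, R.u_mul]
      congr 1
      · ring
      · rw [map_zero]; ring
    have h2 := center_of_eq h1
    refine ⟨q (⟨c, hcN'⟩ * ((û a * ⟨c, hcN'⟩)⁻¹ * g)), ?_, ?_⟩
    · rw [map_mul, hqA ⟨c, hcN'⟩ hc, one_mul]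
      exact hqc _ h2
    · show q g = q (û a) * q _
      rw [← map_mul]
      congr 1
      group
  have hcomm : ∀ x y, ℓ x * ℓ y = ℓ y * ℓ x := by
    refine comm_of_scale R.two hex ℓ ?_ ?_
    · intro x y
      have h1 := key (û x * û y) (x + y) (x * R.θ y) (by
        show (QuotientGroup.mk' (center L)) ((û x : L) * (û y : L)) = _
        rw [map_mul, hû, hû, R.u_mul]
        congr 1
        ring)
      obtain ⟨z, hz, e⟩ := h1
      rw [map_mul] at e
      exact ⟨z, hz, e⟩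
    · intro k hk
      -- `j ↦ j² θ(j)⁻¹` is onto
      let th : Fˣ →* Fˣ := Units.map R.θ.toMonoidHom
      let χ : Fˣ →* Fˣ := powMonoidHom 2 * th⁻¹
      have hχ : ∀ j : Fˣ, ((χ j : Fˣ) : F) = (j : F) ^ 2 * (R.θ j)⁻¹ := by
        intro j
        show ((j ^ 2 * (th j)⁻¹ : Fˣ) : F) = _
        rw [Units.val_mul, Units.val_pow_eq_pow_val, Units.val_inv_eq_inv_val]
        rfl
      have hinj : Function.Injective χ := by
        rw [injective_iff_map_eq_one]
        intro j hj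
        have h1 : (j : F) ^ 2 * (R.θ j)⁻¹ = 1 := by rw [← hχ, hj]; rfl
        have h2 : R.d j * R.u 1 0 * (R.d j)⁻¹ = R.u 1 0 := by
          rw [R.conj_d, one_mul, h1, zero_mul]
        rcases R.fpf h2 with h3 | h3
        · exact h3
        · exact absurd h3.1 one_ne_zero
      obtain ⟨j, hj⟩ := (Finite.injective_iff_surjective.1 hinj) (Units.mk0 k hk)
      have hj' : (j : F) ^ 2 * (R.θ j)⁻¹ = k := by rw [← hχ, hj]; rfl
      obtain ⟨g, hg⟩ := QuotientGroup.mk'_surjective (center L) (R.d j)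
      let g' : N := ⟨g, h.norm_d hg⟩
      refine ⟨q g', fun x => ?_⟩
      have h1 := key (g' * û x * g'⁻¹) (k * x) 0 (by
        show (QuotientGroup.mk' (center L)) (g * (û x : L) * g⁻¹) = _
        rw [map_mul, map_mul, map_inv, hû, hg, R.conj_d, zero_mul]
        congr 1
        rw [← hj']
        ring)
      obtain ⟨z, hz, e⟩ := h1
      rw [map_mul, map_mul, map_inv] at e
      exact ⟨z, hz, e⟩
  -- the preimage of the Sylow group and its abelian quotient
  let S : Subgroup L := R.T.comap (QuotientGroup.mk' (center L))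
  have hSN : S ≤ N := by
    rintro x ⟨a, b, e⟩
    exact h.norm_u e
  let ϕ : S →* N ⧸ A' := q.comp (Subgroup.inclusion hSN)
  have hϕ : ∀ x y : S, ϕ x * ϕ y = ϕ y * ϕ x := by
    rintro ⟨x, a, b, ex⟩ ⟨y, c, d, ey⟩
    obtain ⟨z, hz, e1⟩ := key ⟨x, h.norm_u ex⟩ a b ex
    obtain ⟨z', hz', e2⟩ := key ⟨y, h.norm_u ey⟩ c d ey
    show q ⟨x, _⟩ * q ⟨y, _⟩ = q ⟨y, _⟩ * q ⟨x, _⟩
    rw [e1, e2]
    calc ℓ a * z * (ℓ c * z') = ℓ a * (z * ℓ c) * z' := by group
      _ = ℓ a * ℓ c * (z * z') := by rw [← mem_center_iff.1 hz (ℓ c)]; group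
      _ = ℓ c * ℓ a * (z' * z) := by rw [hcomm, mem_center_iff.1 hz' z]
      _ = ℓ c * (ℓ a * z') * z := by group
      _ = ℓ c * z' * (ℓ a * z) := by rw [mem_center_iff.1 hz' (ℓ a)]; group
  have hrc : ∀ x y : ϕ.range, x * y = y * x := by
    rintro ⟨_, x, rfl⟩ ⟨_, y, rfl⟩
    exact Subtype.ext (hϕ x y)
  let _ : CommGroup ϕ.range := { (inferInstance : Group ϕ.range) with mul_comm := hrc }
  intro h2
  obtain ⟨z₀, hz₀⟩ := exists_prime_orderOf_dvd_card' 2 h2
  obtain ⟨z, hz⟩ := z₀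
  have hzo : orderOf z = 2 := by rw [← hz₀, Subgroup.orderOf_mk]
  obtain ⟨h3, h4⟩ := pow_index_of_perfect hL S ϕ.rangeRestrict hz
  have h5 : q ⟨z ^ S.index, hSN h3⟩ = 1 := congrArg Subtype.val h4
  have h6 : z ^ S.index ∈ A := (QuotientGroup.eq_one_iff (⟨z ^ S.index, hSN h3⟩ : N)).1 h5
  have h7 := h.inf _ h6 (pow_mem hz _)
  have h8 := orderOf_dvd_of_pow_eq_one h7
  rw [hzo] at h8
  have h9 : S.index = R.T.index :=
    index_comap_of_surjective _ (QuotientGroup.mk'_surjective (center L))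
  obtain ⟨P, hP⟩ := R.exists_sylow_eq hm hF
  rw [h9, ← hP] at h8
  exact P.not_dvd_index h8

/-- **`Z(L) = 1`.** -/
theorem center_eq_bot [Finite L] [Fintype F] {m : ℕ} (hm : 1 ≤ m) (hF : Fintype.card F = 2 ^ (2 * m + 1))
    (hX : Lie.IsoSuzuki (L ⧸ center L)) (hnc : normalClosure (A : Set L) = ⊤) : center L = ⊥ := by
  have hL : commutator L = ⊤ := by
    rw [eq_top_iff, ← hnc]
    apply normalClosure_le_normal
    refine h.le_commutator ?_
    have h1 : 1 < Nat.card Fˣ := by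
      rw [Nat.card_units, Nat.card_eq_fintype_card, hF]
      have : 2 ^ 3 ≤ 2 ^ (2 * m + 1) := Nat.pow_le_pow_right (by norm_num) (by omega)
      omega
    have h2 : Nontrivial Fˣ := Finite.one_lt_card_iff_nontrivial.1 h1
    exact exists_ne 1
  rw [← Subgroup.card_eq_one]
  by_contra hne
  obtain ⟨p, hp, hdvd⟩ := Nat.exists_prime_and_dvd hne
  have : Fact p.Prime := ⟨hp⟩
  by_cases h2 : p = 2
  · subst h2
    exact h.not_two_dvd hm hF hL hdvd
  · exact not_dvd_of_cyclic hL (fun P hP => isCyclic_of_isPGroup hX h2 P hP) hdvd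

end Ext

end Cfsg.Agent.Omega.NO1.SE
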