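import Cfsg.Agent.Omega.NO1.SE.Red
import Cfsg.Agent.Omega.NO1.SE.Core
import Cfsg.Agent.Omega.NO1.SE.Ext
import Cfsg.Agent.StrongEmb.Split
import Cfsg.Agent.S1119

/-!
# LEMMA SE (#16297), second part

`StrOut A` : the output of the first part for the simple group `X = L / Z(L)`: `N(A)` is strongly embedded and split by
a `2`-group `Q` with `A = {x ∈ Q | x² = 1}`.

* `Two.main_simple` : `X` simple: `(O3)`, or `X` is a Suzuki group and `A` the centre of a Sylow 2-subgroup;
* `Two.main` : the same for `L`, with `Z(L) = 1` in the Suzuki case and `|L| = q² (q² + 1) (q - 1)`, `q = |A|`;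
* `Two.dcw` : two elements normalising `A` and `B` and inverted by the same involution interchanging them commute.
-/

set_option autoImplicit false

namespace Cfsg.Agent.Omega.NO1.SE

open Subgroup Cfsg Cfsg.Agent.Omega.NOne.Flat.TI Cfsg.Agent.Omega.NoFF.Basic
open Cfsg.Agent.StrongEmb.Split
open scoped Pointwise

universe u

/-- the output of the first part for a simple group -/
def StrOut {X : Type u} [Group X] (A : Subgroup X) : Prop :=
  ∃ H Q : Subgroup X, IsStronglyEmbedded H ∧ IsSplit H Q ∧ IsPGroup 2 Q ∧ H = normalizer (A : Set X) ∧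
    ∀ x, (x ∈ A ↔ x ∈ Q ∧ x * x = 1)

namespace Two

section simple

variable {X : Type u} [Group X] [Finite X] {A B : Subgroup X}

theorem exists_comm (h : Two A B) :
    ∃ x y : X, x ≠ 1 ∧ y ≠ 1 ∧ x ≠ y ∧ x * x = 1 ∧ y * y = 1 ∧ x * y = y * x := by
  obtain ⟨x, hx, hx1⟩ := h.tis.exists_ne h.ptA
  have h1 : ∃ y ∈ A, y ≠ 1 ∧ y ≠ x := by
    by_contra hcon
    push Not at hcon
    have h2 : (A : Set X) ⊆ {1, x} := by
      intro y hy
      by_cases hy1 : y = 1
      · exact Or.inl hy1
      · exact Or.inr (hcon y hy hy1)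
    have h3 : Nat.card A ≤ 2 := by
      rw [← SetLike.coe_sort_coe, Nat.card_coe_set_eq]
      refine (Set.ncard_le_ncard h2 (Set.toFinite _)).trans ?_
      exact (Set.ncard_insert_le _ _).trans (by rw [Set.ncard_singleton])
    have := h.card
    omega
  obtain ⟨y, hy, hy1, hyx⟩ := h1
  exact ⟨x, y, hx1, hy1, Ne.symm hyx, h.tis.sq x hx, h.tis.sq y hy, h.comm h.ptA hx hy⟩

omit [Finite X] in
theorem faithful (h : Two A B) (hX : IsSimpleGroup X) : FaithfulSMul X (X ⧸ normalizer (A : Set X)) := by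
  apply faithfulSMul_of_core
  rcases IsSimpleGroup.eq_bot_or_eq_top_of_normal (normalizer (A : Set X)).normalCore inferInstance with h1 | h1
  · exact h1
  · exfalso
    obtain ⟨b, hb, hb1⟩ := h.tis.exists_ne h.pt
    have h2 : b ∈ (normalizer (A : Set X)).normalCore := by rw [h1]; exact mem_top b
    exact h.ne (h.tis.eq_of_norm h.pt h.ptA hb hb1 (Subgroup.normalCore_le _ h2)).symm

theorem setup (_ : Two A B) {Q : Subgroup X} (hH : IsStronglyEmbedded (normalizer (A : Set X)))
    (hs : IsSplit (normalizer (A : Set X)) Q) {t : X} (ht : t ∉ normalizer (A : Set X)) (ht2 : t * t = 1) :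
    IsRankOneSetup X (X ⧸ normalizer (A : Set X)) ((1 : X) : X ⧸ normalizer (A : Set X)) t Q := by
  have : Fact (Nat.Prime 2) := ⟨Nat.prime_two⟩
  refine setup_of_isSplit hH hs ht ?_
  refine orderOf_eq_prime (by rw [pow_two]; exact ht2) ?_
  rintro rfl
  exact ht (one_mem _)

/-- **The dichotomy for a simple group.** -/
theorem main_simple (h : Two A B) (hX : IsSimpleGroup X) (hS : StrOut A) :
    (∀ t ∈ A, t ≠ 1 → ∃ u ∈ B, u ≠ 1 ∧ (t * u) ^ 3 = 1) ∨
    (Lie.IsoSuzuki X ∧ ∃ P : Sylow 2 X, ∀ x, x ∈ A ↔ x ∈ P ∧ x * x = 1) := by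
  have : Fact (Nat.Prime 2) := ⟨Nat.prime_two⟩
  obtain ⟨H, Q, hH, hs, hQ, rfl, hA⟩ := hS
  have hf := h.faithful hX
  have h2 := h.exists_comm
  by_cases hcase : ∀ t ∈ A, t ≠ 1 → ∃ u ∈ B, u ≠ 1 ∧ (t * u) ^ 3 = 1
  · exact Or.inl hcase
  right
  push Not at hcase
  obtain ⟨t, ht, ht1, hno⟩ := hcase
  obtain ⟨g, -, rfl⟩ := h.pt
  have htn : g⁻¹ * t * g ∉ normalizer (A : Set X) := by
    intro hn
    apply h.ne
    refine h.tis.eq_of_norm h.ptA h.pt ht ht1 (norm_of_conj_eq ?_)
    have h3 := conj_eq_of_norm hn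
    calc MulAut.conj t • MulAut.conj g • A = MulAut.conj g • MulAut.conj (g⁻¹ * t * g) • A := by
          rw [conj_conj, conj_conj]
          congr 2
          group
      _ = MulAut.conj g • A := by rw [h3]
  have hR := h.setup hH hs htn (by
    calc g⁻¹ * t * g * (g⁻¹ * t * g) = g⁻¹ * (t * t) * g := by group
      _ = 1 := by rw [h.tis.sq t ht]; group)
  have hXs := hX
  rcases Core.core hR h2 with ⟨s, hsQ, hs1, hss, h3⟩ | ⟨-, hSz⟩
  · exfalso
    refine hno (g * s * g⁻¹) ?_ ?_ ?_
    · rw [mem_conj]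
      have e : g⁻¹ * (g * s * g⁻¹) * g = s := by group
      rw [e]
      exact (hA s).2 ⟨hsQ, hss⟩
    · intro h0
      apply hs1
      calc s = g⁻¹ * (g * s * g⁻¹) * g := by group
        _ = 1 := by rw [h0]; group
    · have e : t * (g * s * g⁻¹) = g * (g⁻¹ * t * g * s) * g⁻¹ := by group
      rw [e, conj_pow, h3, mul_one, mul_inv_cancel]
  · refine ⟨hSz, ?_⟩
    obtain ⟨P, hP⟩ := (Cfsg.Agent.S1119.result hR).2.2.2.1
    have hPQ : (P : Subgroup X) = Q := (P.is_maximal' hQ hP).symm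
    refine ⟨P, fun x => ?_⟩
    rw [hA x]
    show _ ↔ x ∈ (P : Subgroup X) ∧ _
    rw [hPQ]

/-- in a simple group the elements of the two-point stabiliser inverted by `w` lie in a cyclic group -/
theorem cyc_simple (h : Two A B) (hX : IsSimpleGroup X) (hS : StrOut A) {w : X} (hw : w * w = 1)
    (hwB : MulAut.conj w • A = B) : ∃ C : Subgroup X, IsCyclic C ∧
      ∀ y, y ∈ normalizer (A : Set X) → y ∈ normalizer (B : Set X) → w * y * w⁻¹ = y⁻¹ → y ∈ C := by
  obtain ⟨H, Q, hH, hs, hQ, rfl, hA⟩ := hS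
  have hf := h.faithful hX
  have h2 := h.exists_comm
  have hwn : w ∉ normalizer (A : Set X) := fun hn => h.ne (by rw [← hwB, conj_eq_of_norm hn])
  have hR := h.setup hH hs hwn hw
  obtain ⟨C, hC, hCc, -⟩ := Cfsg.Agent.S1131.result hR h2
  refine ⟨C, hCc, fun y hyA hyB hy => ?_⟩
  have h3 : y ∈ (C : Set X) := by
    rw [hC]
    refine ⟨⟨?_, ?_⟩, hy⟩
    · refine MulAction.mem_stabilizer_iff.2 ?_
      show ((y * 1 : X) : X ⧸ normalizer (A : Set X)) = _
      rw [eq_comm, QuotientGroup.eq, mul_one, inv_one, one_mul]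
      exact hyA
    · refine MulAction.mem_stabilizer_iff.2 ?_
      show ((y * (w * 1) : X) : X ⧸ normalizer (A : Set X)) = ((w * 1 : X) : X ⧸ normalizer (A : Set X))
      rw [eq_comm, QuotientGroup.eq, mul_one]
      refine norm_of_conj_eq ?_
      have h4 := conj_eq_of_norm hyB
      rw [← hwB, conj_conj] at h4
      calc MulAut.conj (w⁻¹ * (y * w)) • A = MulAut.conj w⁻¹ • MulAut.conj (y * w) • A := by rw [conj_conj]
        _ = MulAut.conj w⁻¹ • MulAut.conj w • A := by rw [h4]
        _ = A := by rw [conj_conj, inv_mul_cancel, map_one, one_smul]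
  exact h3

end simple

section general

variable {L : Type u} [Group L] [Finite L] {A B : Subgroup L}

/-- **LEMMA SE.** -/
theorem main (h : Two A B) (hS : StrOut (im A)) :
    (∀ t ∈ A, t ≠ 1 → ∃ u ∈ B, u ≠ 1 ∧ (t * u) ^ 3 = 1) ∨
    (Lie.IsoSuzuki L ∧ Nat.card L = Nat.card A ^ 2 * (Nat.card A ^ 2 + 1) * (Nat.card A - 1) ∧
      ∃ P : Sylow 2 L, ∀ x, x ∈ A ↔ x ∈ P ∧ x * x = 1) := by
  rcases h.quot.main_simple h.simple.1 hS with h1 | ⟨hSz, P, hP⟩
  · left
    intro t ht ht1
    obtain ⟨_, ⟨u, hu, rfl⟩, hu1, h3⟩ := h1 (QuotientGroup.mk' (center L) t) ⟨t, ht, rfl⟩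
      (fun h0 => ht1 (h.mk_eq_one h.ptA ht h0))
    have hune : u ≠ 1 := by
      rintro rfl
      exact hu1 (map_one _)
    refine ⟨u, hu, hune, ?_⟩
    rw [← map_mul, ← map_pow] at h3
    have hc : (t * u) ^ 3 ∈ center L := (QuotientGroup.eq_one_iff _).1 h3
    -- `c := (t u)³` is central and inverted by `t`
    have ht2 := h.tis.sq t ht
    have hu2 := h.tis.pt_sq h.pt hu
    have hti : t⁻¹ = t := inv_eq_of_mul_eq_one_left ht2
    have hui : u⁻¹ = u := inv_eq_of_mul_eq_one_left hu2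
    have h4 : t * (t * u) ^ 3 * t⁻¹ = ((t * u) ^ 3)⁻¹ := by
      rw [← conj_pow, ← inv_pow]
      congr 1
      rw [_root_.mul_inv_rev, hti, hui, ← mul_assoc, ht2, one_mul]
    have h5 : (t * u) ^ 3 * (t * u) ^ 3 = 1 := by
      rw [mem_center_iff.1 hc t, mul_inv_cancel_right] at h4
      nth_rewrite 1 [h4]
      exact inv_mul_cancel _
    have hodd := h.tis.odd h.ptA h.pt h.ne ht ht1 hu hune
    have h6 : orderOf (t * u) ∣ 6 := orderOf_dvd_of_pow_eq_one (by
      rw [show (6 : ℕ) = 3 + 3 by norm_num, pow_add, h5])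
    have h7 : orderOf (t * u) ∣ 3 := by
      have h8 : Nat.Coprime (orderOf (t * u)) 2 := Nat.coprime_two_right.2 hodd
      exact h8.dvd_of_dvd_mul_left (by rw [show (2 * 3 : ℕ) = 6 by norm_num]; exact h6)
    exact orderOf_dvd_iff_pow_eq_one.1 h7
  · right
    obtain ⟨F, iF, iF', m, hm, hF, hcX, R, hR⟩ := exists_rel_sylow hSz P
    have hmem : ∀ x, x ∈ A.map (QuotientGroup.mk' (center L)) ↔ ∃ b, x = R.u 0 b := by
      intro x
      show x ∈ im A ↔ _
      rw [hP x]
      show x ∈ (P : Subgroup (L ⧸ center L)) ∧ _ ↔ _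
      rw [← hR]
      constructor
      · rintro ⟨⟨a, b, rfl⟩, h1⟩
        rw [R.u_sq_iff] at h1
        exact ⟨b, by rw [h1]⟩
      · rintro ⟨b, rfl⟩
        exact ⟨R.u_mem _ _, (R.u_sq_iff 0 b).2 rfl⟩
    have hE : Ext A R :=
      { inf := fun a ha hz => h.eq_one_of_center h.ptA ha hz
        mem := hmem
        norm := by
          intro g hg
          refine h.norm_of_im h.ptA ?_
          refine norm_of_conj_eq ?_
          have h1 : MulAut.conj (QuotientGroup.mk' (center L) g) • im A ≤ im A := by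
            intro x hx
            rw [mem_conj] at hx
            have h2 := hg _ hx
            have e : QuotientGroup.mk' (center L) g * ((QuotientGroup.mk' (center L) g)⁻¹ * x *
                QuotientGroup.mk' (center L) g) * (QuotientGroup.mk' (center L) g)⁻¹ = x := by group
            rwa [e] at h2
          refine Subgroup.eq_of_le_of_card_ge h1 (le_of_eq ?_)
          exact Nat.card_congr (Subgroup.equivSMul (MulAut.conj (QuotientGroup.mk' (center L) g)) (im A)).toEquiv }
    have hZ : center L = ⊥ := hE.center_eq_bot hm hF hSz h.nc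
    have hbij : Function.Bijective (QuotientGroup.mk' (center L)) := by
      refine ⟨?_, QuotientGroup.mk'_surjective _⟩
      rw [← MonoidHom.ker_eq_bot_iff, QuotientGroup.ker_mk', hZ]
    let f : L ≃* L ⧸ center L := MulEquiv.ofBijective (QuotientGroup.mk' (center L)) hbij
    have hfa : ∀ x, f x = QuotientGroup.mk' (center L) x := fun _ => rfl
    -- the order
    have hcA : Nat.card A = Fintype.card F := by
      rw [← h.card_im, ← Nat.card_eq_fintype_card]
      refine (Nat.card_congr (Equiv.ofBijective (fun b : F => (⟨R.u 0 b, (hmem _).2 ⟨b, rfl⟩⟩ : im A)) ⟨?_, ?_⟩)).symm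
      · intro b c hbc
        exact (R.u_inj (congrArg Subtype.val hbc)).2
      · rintro ⟨x, hx⟩
        obtain ⟨b, rfl⟩ := (hmem x).1 hx
        exact ⟨b, rfl⟩
    have hcL : Nat.card L = Nat.card A ^ 2 * (Nat.card A ^ 2 + 1) * (Nat.card A - 1) := by
      rw [Nat.card_congr f.toEquiv, hcX, hcA]
    obtain ⟨P', hP'⟩ : ∃ P' : Sylow 2 L, ∀ x, x ∈ P' ↔ f x ∈ P :=
      ⟨P.comapOfInjective f.toMonoidHom f.injective (fun x _ => f.surjective x), fun x => Iff.rfl⟩
    refine ⟨?_, hcL, P', fun x => ?_⟩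
    · obtain ⟨F', iF1, iF1', m', hm', hF', ⟨f'⟩⟩ := hSz
      exact ⟨F', iF1, iF1', m', hm', hF', ⟨f.trans f'⟩⟩
    · rw [hP' x, hfa]
      have h1 : x ∈ A ↔ QuotientGroup.mk' (center L) x ∈ im A := by
        constructor
        · intro hx; exact ⟨x, hx, rfl⟩
        · rintro ⟨a, ha, e⟩
          rwa [← hbij.1 e]
      rw [h1, hP]
      refine and_congr_right fun _ => ?_
      rw [← map_mul]
      constructor
      · intro h2
        exact hbij.1 (by rw [h2, map_one])
      · intro h2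
        rw [h2, map_one]

/-- two elements normalising `A` and `B` and inverted by the same involution interchanging them commute -/
theorem dcw (h : Two A B) (hS : StrOut (im A)) {w : L} (hw : w * w = 1) (hwB : MulAut.conj w • A = B) {y z : L}
    (hyA : y ∈ normalizer (A : Set L)) (hyB : y ∈ normalizer (B : Set L)) (hy : w * y * w⁻¹ = y⁻¹)
    (hzA : z ∈ normalizer (A : Set L)) (hzB : z ∈ normalizer (B : Set L)) (hz : w * z * w⁻¹ = z⁻¹) :
    y * z = z * y := by
  set π := QuotientGroup.mk' (center L) with hπ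
  have hn : ∀ {C : Subgroup L} {x : L}, x ∈ normalizer (C : Set L) → π x ∈ normalizer (im C : Set (L ⧸ center L)) := by
    intro C x hx
    refine norm_of_conj_eq ?_
    rw [← im_conj, conj_eq_of_norm hx]
  obtain ⟨C, hCc, hC⟩ := h.quot.cyc_simple h.simple.1 hS (w := π w) (by rw [← map_mul, hw, map_one])
    (by rw [← im_conj, hwB])
  have h1 : y ∈ C.comap π := hC _ (hn hyA) (hn hyB) (by rw [← map_inv, ← map_mul, ← map_mul, hy, map_inv])
  have h2 : z ∈ C.comap π := hC _ (hn hzA) (hn hzB) (by rw [← map_inv, ← map_mul, ← map_mul, hz, map_inv])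
  let ϕ : C.comap π →* C := π.subgroupComap C
  have h3 : ∀ a b : C.comap π, a * b = b * a := by
    refine commutative_of_cyclic_center_quotient ϕ ?_
    intro x hx
    have h4 : π (x : L) = 1 := congrArg Subtype.val hx
    have h5 : (x : L) ∈ center L := (QuotientGroup.eq_one_iff (x : L)).1 h4
    rw [mem_center_iff]
    intro y
    exact Subtype.ext (mem_center_iff.1 h5 y)
  exact congrArg Subtype.val (h3 ⟨y, h1⟩ ⟨z, h2⟩)

end general

end Two

end Cfsg.Agent.Omega.NO1.SE
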