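import Cfsg.Agent.Omega.NOne.Flat.TI
import Cfsg.Agent.WeakTI.Simple
import Cfsg.Agent.WeakTI.ReduceMain

/-!
# LEMMA SE (#16297, helper282; #15909 (F3)), first part: `L / Z(L)` is simple

`A`, `B` two different points of the finite group `L = ⟨A, B⟩`, `|A| ≥ 4`, an element `v ≠ 1` of a point
normalises no other point. Then `A` is a weakly closed TI-subgroup, `A ∩ O₂(L) = 1`, `L / Z(L)` is nonabelian
simple, and `(L / Z(L), A Z(L) / Z(L))` satisfies the same hypothesis.
-/

set_option autoImplicit false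

namespace Cfsg.Agent.Omega.NO1.SE

open Subgroup Cfsg Cfsg.Agent.Omega.NOne.Flat.TI Cfsg.Agent.WeakTI.Basic
open Cfsg.Agent.Lib.Cores Cfsg.Agent.WeakTI.ReduceTwo Cfsg.Agent.WeakTI.ReduceComponent
open scoped Pointwise

universe u

variable {L : Type u} [Group L]

/-- the situation of LEMMA SE -/
structure Two (A B : Subgroup L) : Prop where
  tis : Tis (⊤ : Subgroup L) A
  pt : Pt (⊤ : Subgroup L) A B
  ne : A ≠ B
  gen : A ⊔ B = ⊤
  card : 4 ≤ Nat.card A

namespace Two

variable {A B : Subgroup L} (h : Two A B)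
include h

theorem ptA : Pt (⊤ : Subgroup L) A A := Tis.pt_self

theorem comm {C : Subgroup L} (hC : Pt ⊤ A C) {a b : L} (ha : a ∈ C) (hb : b ∈ C) : a * b = b * a := by
  have h1 := h.tis.pt_sq hC ha
  have h2 := h.tis.pt_sq hC hb
  have h3 := h.tis.pt_sq hC (C.mul_mem ha hb)
  calc a * b = a * (a * b * (a * b)) * b := by rw [h3, mul_one]
    _ = (a * a) * (b * a) * (b * b) := by group
    _ = b * a := by rw [h1, h2, one_mul, mul_one]

theorem wti : WTI A where
  comm _ ha _ hb := h.comm h.ptA ha hb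
  sq := h.tis.sq
  ne := h.tis.ne
  ti g := by
    by_cases hi : MulAut.conj g • A ⊓ A = ⊥
    · exact Or.inr hi
    · obtain ⟨x, hx, hx1⟩ := (Subgroup.bot_or_exists_ne_one (MulAut.conj g • A ⊓ A)).resolve_left hi
      exact Or.inl (h.tis.eq_of_mem (Tis.pt_conj h.ptA (mem_top g)) h.ptA hx.1 hx1 hx.2)
  wc g hg := by
    have hp : Pt ⊤ A (MulAut.conj g • A) := Tis.pt_conj h.ptA (mem_top g)
    obtain ⟨a, ha, ha1⟩ := h.tis.exists_ne hp
    exact h.tis.eq_of_norm hp h.ptA ha ha1 (hg ha)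

theorem cjB : Cj A B := by
  obtain ⟨g, -, e⟩ := h.pt
  exact ⟨g, e⟩

theorem nc : normalClosure (A : Set L) = ⊤ := by
  rw [eq_top_iff, ← h.gen, sup_le_iff]
  have h1 : A ≤ normalClosure (A : Set L) := subset_normalClosure
  refine ⟨h1, ?_⟩
  obtain ⟨g, -, e⟩ := h.pt
  rw [e]
  intro x hx
  rw [mem_cj] at hx
  have h2 := (normalClosure_normal (s := (A : Set L))).conj_mem _ (h1 hx) g
  have e2 : g * (g⁻¹ * x * g) * g⁻¹ = x := by group
  rwa [e2] at h2

theorem inf_pCore [Finite L] : A ⊓ pCore 2 L = ⊥ := by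
  rw [Subgroup.eq_bot_iff_forall]
  rintro x ⟨hxA, hxO⟩
  by_contra hx
  have hB : WTI B := h.wti.of_cj h.cjB
  exact h.ne (h.tis.eq_of_norm h.ptA h.pt hxA hx (pCore_le_normalizer hB hxO))

theorem red [Finite L] : Red (A.map (QuotientGroup.mk' (center L))) :=
  Cfsg.Agent.WeakTI.ReduceMain.red_quotient h.wti h.nc h.card h.inf_pCore

/-- **`L / Z(L)` is a nonabelian simple group.** -/
theorem simple [Finite L] : IsSimpleGroup (L ⧸ center L) ∧ ∃ a b : L ⧸ center L, a * b ≠ b * a :=
  Cfsg.Agent.WeakTI.Simple.isSimpleGroup_of_red h.red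

/-- a central element of a point is trivial -/
theorem eq_one_of_center {C : Subgroup L} (hC : Pt ⊤ A C) {z : L} (hz : z ∈ C) (hz2 : z ∈ center L) : z = 1 := by
  by_contra hz1
  have hn : ∀ D : Subgroup L, z ∈ normalizer (D : Set L) := by
    intro D
    rw [mem_normalizer_iff]
    intro x
    have e : z * x * z⁻¹ = x := by rw [← mem_center_iff.1 hz2 x]; group
    rw [e]
  exact h.ne ((h.tis.eq_of_norm hC h.ptA hz hz1 (hn A)).symm.trans (h.tis.eq_of_norm hC h.pt hz hz1 (hn B)))

/-- a normalises the point `C` modulo the centre implies that it normalises it -/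
theorem norm_of_mod {C : Subgroup L} (hC : Pt ⊤ A C) {a : L}
    (hn : ∀ b ∈ C, ∃ c ∈ C, ∃ z ∈ center L, a * b * a⁻¹ = c * z) : a ∈ normalizer (C : Set L) := by
  obtain ⟨b, hb, hb1⟩ := h.tis.exists_ne hC
  obtain ⟨c, hc, z, hz, e⟩ := hn b hb
  have hD : Pt ⊤ A (MulAut.conj a • C) := Tis.pt_conj hC (mem_top a)
  have h1 : c * z ∈ MulAut.conj a • C := by rw [← e]; exact conj_mem_cj hb
  have hcz : c * z ≠ 1 := by
    rw [← e]
    intro h0
    apply hb1
    have e2 : b = a⁻¹ * (a * b * a⁻¹) * a := by group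
    rw [e2, h0]; group
  have hN : c * z ∈ normalizer (C : Set L) := by
    refine mul_mem (le_normalizer hc) ?_
    rw [mem_normalizer_iff]
    intro x
    have e : z * x * z⁻¹ = x := by rw [← mem_center_iff.1 hz x]; group
    rw [e]
  exact norm_of_conj_eq (h.tis.eq_of_norm hD hC h1 hcz hN)

/-- image of a point in `L / Z(L)` -/
abbrev im (C : Subgroup L) : Subgroup (L ⧸ center L) := C.map (QuotientGroup.mk' (center L))

theorem mk_eq_one {C : Subgroup L} (hC : Pt ⊤ A C) {x : L} (hx : x ∈ C)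
    (h1 : (QuotientGroup.mk' (center L)) x = 1) : x = 1 :=
  h.eq_one_of_center hC hx ((QuotientGroup.eq_one_iff x).1 h1)

omit h in
theorem im_conj (C : Subgroup L) (g : L) :
    im (MulAut.conj g • C) = MulAut.conj (QuotientGroup.mk' (center L) g) • im C :=
  map_cj _ C g

theorem norm_of_im {C : Subgroup L} (hC : Pt ⊤ A C) {a : L}
    (hn : QuotientGroup.mk' (center L) a ∈ normalizer (im C : Set (L ⧸ center L))) :
    a ∈ normalizer (C : Set L) := by
  refine h.norm_of_mod hC fun b hb => ?_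
  have h1 := (mem_normalizer_iff.1 hn (QuotientGroup.mk' (center L) b)).1 ⟨b, hb, rfl⟩
  obtain ⟨c, hc, e⟩ := h1
  refine ⟨c, hc, c⁻¹ * (a * b * a⁻¹), ?_, by group⟩
  rw [← map_inv, ← map_mul, ← map_mul] at e
  exact QuotientGroup.eq.1 e

theorem im_inj {C D : Subgroup L} (hC : Pt ⊤ A C) (hD : Pt ⊤ A D) (e : im C = im D) : C = D := by
  obtain ⟨a, ha, ha1⟩ := h.tis.exists_ne hC
  refine h.tis.eq_of_norm hC hD ha ha1 (h.norm_of_im hD ?_)
  rw [← e]
  exact le_normalizer ⟨a, ha, rfl⟩

theorem card_im : Nat.card (im A) = Nat.card A := by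
  have hinj : Function.Injective ((QuotientGroup.mk' (center L)).subgroupMap A) := by
    rw [injective_iff_map_eq_one]
    intro x hx
    have h1 : (QuotientGroup.mk' (center L)) (x : L) = 1 := congrArg Subtype.val hx
    exact Subtype.ext (h.mk_eq_one h.ptA x.2 h1)
  exact (Nat.card_congr (Equiv.ofBijective _
    ⟨hinj, (QuotientGroup.mk' (center L)).subgroupMap_surjective A⟩)).symm

/-- **the hypothesis passes to `L / Z(L)`** -/
theorem quot : Two (im A) (im B) where
  tis :=
    { le := le_top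
      sq := by
        rintro _ ⟨a, ha, rfl⟩
        rw [← map_mul, h.tis.sq a ha, map_one]
      ne := by
        intro h0
        obtain ⟨a, ha, ha1⟩ := h.tis.exists_ne h.ptA
        apply ha1
        have h1 : QuotientGroup.mk' (center L) a ∈ im A := ⟨a, ha, rfl⟩
        rw [h0, mem_bot] at h1
        exact h.mk_eq_one h.ptA ha h1
      ti := by
        rintro g - _ ⟨a, ha, rfl⟩ ha1 hn
        obtain ⟨g, rfl⟩ := QuotientGroup.mk'_surjective (center L) g
        have ha2 : a ≠ 1 := by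
          rintro rfl
          exact ha1 (map_one _)
        rw [← im_conj] at hn ⊢
        have hp : Pt ⊤ A (MulAut.conj g • A) := Tis.pt_conj h.ptA (mem_top g)
        rw [← h.tis.eq_of_norm h.ptA hp ha ha2 (h.norm_of_im hp hn)] }
  pt := by
    obtain ⟨g, -, e⟩ := h.pt
    exact ⟨QuotientGroup.mk' (center L) g, mem_top _, by rw [e]; exact im_conj A g⟩
  ne e := h.ne (h.im_inj h.ptA h.pt e)
  gen := by
    rw [← Subgroup.map_sup, h.gen, ← MonoidHom.range_eq_map]
    exact MonoidHom.range_eq_top.2 (QuotientGroup.mk'_surjective _)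
  card := by rw [h.card_im]; exact h.card

end Two

end Cfsg.Agent.Omega.NO1.SE
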