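import Cfsg.Agent.Omega.NO1.SE.Red
import Cfsg.Agent.StrongEmb.Strong
import Cfsg.Agent.StrongEmb.Split
import Cfsg.Agent.TwoFusion.GoldTrans
import Cfsg.Agent.S1174

/-!
# LEMMA SE, second part: the simple case has a strongly embedded subgroup with a split 2-group

`Two A B` in a simple group `X`: `H = N_X(A)` is strongly embedded, `Q ⊴ H` is a 2-group, regular on the other
cosets of `H`, and `A` is the set of the elements of `Q` of square `1`.
-/

set_option autoImplicit false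

namespace Cfsg.Agent.Omega.NO1.SE

open Subgroup Cfsg Cfsg.Agent.Omega.NOne.Flat.TI Cfsg.Agent.WeakTI.Basic
open Cfsg.Agent.StrongEmb.Split Cfsg.Agent.StrongEmb.TwoRank Cfsg.Agent.TwoFusion.StronglyEmbeddedBasic
open scoped Pointwise

universe u

variable {X : Type u} [Group X]

/-- the output of the second part -/
structure Bend (A H Q : Subgroup X) : Prop where
  se : IsStronglyEmbedded H
  split : IsSplit H Q
  two : IsPGroup 2 Q
  norm : H = normalizer (A : Set X)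
  mem : ∀ x, x ∈ A ↔ x ∈ Q ∧ x * x = 1
  /-- `Q` contains the 2-elements of `H` -/
  twoEl : ∀ x ∈ H, (∃ n : ℕ, orderOf x = 2 ^ n) → x ∈ Q

namespace Two

variable {A B : Subgroup X} (h : Two A B)
include h

theorem norm_ne_top {C : Subgroup X} (hC : Pt ⊤ A C) : normalizer (C : Set X) ≠ ⊤ := by
  intro h0
  obtain ⟨c, hc, hc1⟩ := h.tis.exists_ne hC
  obtain ⟨a, ha, ha1⟩ := h.tis.exists_ne h.ptA
  obtain ⟨b, hb, hb1⟩ := h.tis.exists_ne h.pt
  have h1 := h.tis.eq_of_norm h.ptA hC ha ha1 (by rw [h0]; exact mem_top a)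
  have h2 := h.tis.eq_of_norm h.pt hC hb hb1 (by rw [h0]; exact mem_top b)
  exact h.ne (h1.trans h2.symm)

theorem nonab : ∃ a b : X, a * b ≠ b * a := by
  by_contra hcon
  push Not at hcon
  refine h.norm_ne_top h.ptA ?_
  rw [eq_top_iff]
  intro x _
  rw [mem_normalizer_iff]
  intro y
  have e : x * y * x⁻¹ = y := by rw [hcon x y]; group
  rw [e]

theorem strClosed [Finite X] {S : Sylow 2 X} (hS : A ≤ S) : IsStronglyClosed A (S : Subgroup X) := by
  refine ⟨hS, fun x hx g hg => ?_⟩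
  by_cases hx1 : x = 1
  · rw [hx1]
    have e : g * 1 * g⁻¹ = 1 := by group
    rw [e]
    exact one_mem _
  · have h1 := h.wti.le_normalizer_of_isPGroup S.isPGroup' hS hg
    have hp : Pt ⊤ A (MulAut.conj g • A) := Tis.pt_conj h.ptA (mem_top g)
    have h2 : g * x * g⁻¹ ∈ MulAut.conj g • A := conj_mem_cj hx
    have h3 := h.tis.eq_of_norm hp h.ptA h2 (by
      intro h0
      apply hx1
      have e : x = g⁻¹ * (g * x * g⁻¹) * g := by group
      rw [e, h0]; group) h1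
    rw [← h3]
    exact h2

theorem exists_strEmb [Finite X] [IsSimpleGroup X] : ∃ H : Subgroup X, IsStronglyEmbedded H := by
  obtain ⟨S, hS⟩ := h.wti.isPGroup.exists_le_sylow
  refine Cfsg.Agent.S1174.result S A h.tis.ne (h.strClosed hS) ?_
  intro h0
  apply h.norm_ne_top h.ptA
  rw [eq_top_iff, ← h0]
  refine iSup_le ?_
  rintro ⟨t, ht, ht2⟩
  refine h.wti.centralizer_le_normalizer ht ?_
  rintro rfl
  rw [orderOf_one] at ht2
  exact absurd ht2 (by norm_num)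

theorem commPair [Finite X] : CommPair X := by
  obtain ⟨a, ha, b, hb, ha1, hb1, hab⟩ := Cfsg.Agent.WeakTI.ReduceCenter.exists_pair h.card
  exact ⟨a, b, orderOf_eq_two_of_mul_self (h.tis.sq a ha) ha1, orderOf_eq_two_of_mul_self (h.tis.sq b hb) hb1,
    hab, h.comm h.ptA ha hb⟩

/-- **LEMMA SE, the simple case.** -/
theorem exists_bend [Finite X] [IsSimpleGroup X] : ∃ H Q : Subgroup X, Bend A H Q := by
  have hp2 : Fact (Nat.Prime 2) := ⟨Nat.prime_two⟩
  obtain ⟨H₀, hH₀⟩ := h.exists_strEmb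
  obtain ⟨a, ha, ha1⟩ := h.tis.exists_ne h.ptA
  have ha2 : orderOf a = 2 := orderOf_eq_two_of_mul_self (h.tis.sq a ha) ha1
  obtain ⟨t, ht, ht2⟩ := exists_involution hH₀
  obtain ⟨k, hk⟩ := isConj_iff.mp (isConj_of_involutions hH₀ t a ht2 ha2)
  obtain ⟨H, hH, haH⟩ : ∃ H : Subgroup X, IsStronglyEmbedded H ∧ a ∈ H :=
    ⟨H₀.map (MulAut.conj k : X ≃* X).toMonoidHom, Cfsg.Agent.TwoFusion.GoldTrans.isStronglyEmbedded_map _ hH₀,
      ⟨t, ht, hk⟩⟩
  obtain ⟨Q, hQ, hQ2⟩ := Cfsg.Agent.StrongEmb.Strong.exists_isSplit h.nonab H hH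
  obtain ⟨-, hel⟩ := isPGroup_of_isSplit hH hQ h.commPair
  have hinv : ∀ x : X, x * x = 1 → ∃ n : ℕ, orderOf x = 2 ^ n := by
    intro x hx
    by_cases hx1 : x = 1
    · exact ⟨0, by rw [hx1, orderOf_one, pow_zero]⟩
    · exact ⟨1, by rw [orderOf_eq_two_of_mul_self hx hx1, pow_one]⟩
  -- `A ≤ H`, as `A` centralises `a`
  have hAH : A ≤ H := fun b hb => mem_of_commute hH haH ha2 (h.comm h.ptA hb ha)
  have hAQ : A ≤ Q := fun b hb => hel b (hAH hb) (hinv b (h.tis.sq b hb))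
  -- a Sylow group over `Q`
  obtain ⟨S, hS⟩ := hQ2.exists_le_sylow
  have hcl := h.strClosed (hAQ.trans hS)
  -- conjugation in `H`
  have hQn : ∀ y ∈ H, ∀ x ∈ Q, y * x * y⁻¹ ∈ Q := fun y hy x hx =>
    hQ.normal.conj_mem ⟨x, hQ.le hx⟩ hx ⟨y, hy⟩
  have hAn : ∀ y ∈ H, ∀ x ∈ A, y * x * y⁻¹ ∈ A := fun y hy x hx =>
    hcl.2 x hx y (hS (hQn y hy x (hAQ hx)))
  have hmem : ∀ x, x ∈ A ↔ x ∈ Q ∧ x * x = 1 := by
    intro x
    refine ⟨fun hx => ⟨hAQ hx, h.tis.sq x hx⟩, ?_⟩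
    rintro ⟨hx, hxx⟩
    by_cases hx1 : x = 1
    · rw [hx1]; exact one_mem _
    · have hx2 := orderOf_eq_two_of_mul_self hxx hx1
      obtain ⟨g, hg⟩ := isConj_iff.mp (isConj_of_involutions hH a x ha2 hx2)
      have hgH : g ∈ H := mem_of_conj_mem hH haH ha2 (by rw [hg]; exact hQ.le hx)
      rw [← hg]
      exact hAn g hgH a ha
  refine ⟨H, Q, hH, hQ, hQ2, le_antisymm ?_ ?_, hmem, hel⟩
  · intro y hy
    rw [mem_normalizer_iff]
    intro x
    refine ⟨hAn y hy x, fun hx => ?_⟩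
    have h1 := hAn y⁻¹ (inv_mem hy) _ hx
    have e : y⁻¹ * (y * x * y⁻¹) * y⁻¹⁻¹ = x := by group
    rwa [e] at h1
  · intro y hy
    exact mem_of_conj_mem hH haH ha2 (hAH ((mem_normalizer_iff.1 hy a).1 ha))

end Two

end Cfsg.Agent.Omega.NO1.SE
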